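import Groth.Agent.Synt29.Descent
import Groth.Agent.FlatDevDim.Basic
import Mathlib.RingTheory.TensorProduct.Quotient

/-! The dimension of the support of a fibre module under a change of the base ring. -/

universe u

set_option autoImplicit false
set_option backward.isDefEq.respectTransparency false
set_option backward.isDefEq.respectTransparency.types false

open TensorProduct

namespace Groth.Agent.FlatDevBC

theorem ringKrullDim_fiber_baseChange (R R' T : Type u) [CommRing R] [CommRing R'] [CommRing T]
    [Algebra R R'] [Algebra R T] [Algebra.FiniteType R T] (p : Ideal R) [p.IsPrime] (p' : Ideal R')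
    [p'.IsPrime] [p'.LiesOver p] :
    ringKrullDim (p'.Fiber (R' ⊗[R] T)) = ringKrullDim (p.Fiber T) := by
  letI : Algebra p.ResidueField p'.ResidueField :=
    (Ideal.ResidueField.mapₐ p p' (Algebra.ofId R R') (Ideal.LiesOver.over (p := p) (P := p'))).toRingHom.toAlgebra
  haveI : IsScalarTower R p.ResidueField p'.ResidueField := IsScalarTower.of_algebraMap_eq fun r =>
    ((Ideal.ResidueField.mapₐ p p' (Algebra.ofId R R') (Ideal.LiesOver.over (p := p) (P := p'))).commutes r).symm
  let e : p'.Fiber (R' ⊗[R] T) ≃+* p'.ResidueField ⊗[p.ResidueField] (p.Fiber T) :=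
    (Algebra.TensorProduct.cancelBaseChange R R' p'.ResidueField p'.ResidueField T).toRingEquiv.trans
      (Algebra.TensorProduct.cancelBaseChange R p.ResidueField p'.ResidueField p'.ResidueField T).symm.toRingEquiv
  rw [ringKrullDim_eq_of_ringEquiv (R := p'.Fiber (R' ⊗[R] T))
    (S := p'.ResidueField ⊗[p.ResidueField] (p.Fiber T)) e]
  rcases subsingleton_or_nontrivial (p.Fiber T) with h | h
  · haveI : Subsingleton (p'.ResidueField ⊗[p.ResidueField] (p.Fiber T)) := inferInstance
    rw [ringKrullDim_eq_bot_of_subsingleton, ringKrullDim_eq_bot_of_subsingleton]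
  · exact Groth.Agent.Synt29.ringKrullDim_tensor_field _ _ _

/-- The support of a fibre module has the dimension of the fibre of any quotient with that support. -/
theorem supportDim_fiber_eq {R S N : Type u} [CommRing R] [CommRing S] [Algebra R S] [AddCommGroup N]
    [Module S N] [Module R N] [IsScalarTower R S N] [Module.Finite S N] (p : Ideal R) [p.IsPrime]
    (I : Ideal S)
    (hI : ∀ q : PrimeSpectrum S, q ∈ Module.support S N ↔ I ≤ q.asIdeal) :
    Module.supportDim (p.Fiber S) (FlatCA.fiberMod p S N) = ringKrullDim (p.Fiber (S ⧸ I)) := by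
  letI : Algebra S (p.Fiber S) := Algebra.TensorProduct.rightAlgebra
  haveI : IsScalarTower S (p.Fiber S) (FlatCA.fiberMod p S N) :=
    inferInstanceAs (IsScalarTower S (p.Fiber S) ((p.Fiber S) ⊗[S] N))
  let eS := PrimeSpectrum.primesOverOrderIsoFiber R S p
  have key : ∀ x : PrimeSpectrum (p.Fiber S),
      x ∈ Module.support (p.Fiber S) (FlatCA.fiberMod p S N) ↔ I ≤ (eS.symm x).1 := fun x =>
    (Groth.Agent.QCoh.mem_support_baseChange (l := FlatCA.toFiberMod p S N)
      (TensorProduct.isBaseChange S N (p.Fiber S)) x).trans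
      (hI (PrimeSpectrum.comap (algebraMap S (p.Fiber S)) x))
  have hmk : Function.Surjective (Ideal.Quotient.mk I) := Ideal.Quotient.mk_surjective
  have hover : ∀ q : Ideal (S ⧸ I),
      (q.comap (Ideal.Quotient.mk I)).comap (algebraMap R S) = q.comap (algebraMap R (S ⧸ I)) :=
    fun q => by rw [Ideal.comap_comap]; rfl
  let f : p.primesOver (S ⧸ I) ≃o {q : p.primesOver S // I ≤ q.1} :=
    { toFun := fun q => ⟨⟨q.1.comap (Ideal.Quotient.mk I),
          haveI := q.2.1; Ideal.IsPrime.comap _, ⟨q.2.2.over.trans (hover q.1).symm⟩⟩, by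
          intro s hs
          show Ideal.Quotient.mk I s ∈ q.1
          rw [Ideal.Quotient.eq_zero_iff_mem.2 hs]
          exact q.1.zero_mem⟩
      invFun := fun q => ⟨q.1.1.map (Ideal.Quotient.mk I),
          (haveI := q.1.2.1; Ideal.map_isPrime_of_surjective hmk (by rw [Ideal.mk_ker]; exact q.2)), ⟨by
          refine q.1.2.2.over.trans ?_
          show q.1.1.comap (algebraMap R S) = (q.1.1.map (Ideal.Quotient.mk I)).comap (algebraMap R (S ⧸ I))
          rw [← hover, Ideal.comap_map_of_surjective _ hmk, ← RingHom.ker_eq_comap_bot, Ideal.mk_ker,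
            sup_eq_left.2 q.2]⟩⟩
      left_inv := fun q => Subtype.ext (Ideal.map_comap_of_surjective _ hmk q.1)
      right_inv := fun q => Subtype.ext (Subtype.ext (by
        show (q.1.1.map (Ideal.Quotient.mk I)).comap (Ideal.Quotient.mk I) = q.1.1
        rw [Ideal.comap_map_of_surjective _ hmk, ← RingHom.ker_eq_comap_bot, Ideal.mk_ker,
          sup_eq_left.2 q.2]))
      map_rel_iff' := fun {a b} => by
        show a.1.comap (Ideal.Quotient.mk I) ≤ b.1.comap (Ideal.Quotient.mk I) ↔ a.1 ≤ b.1
        exact Ideal.comap_le_comap_iff_of_surjective _ hmk _ _ }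
  let g : Module.support (p.Fiber S) (FlatCA.fiberMod p S N) ≃o {q : p.primesOver S // I ≤ q.1} :=
    { toFun := fun x => ⟨eS.symm x.1, (key x.1).1 x.2⟩
      invFun := fun q => ⟨eS q.1, (key (eS q.1)).2 (by rw [eS.symm_apply_apply]; exact q.2)⟩
      left_inv := fun x => Subtype.ext (eS.apply_symm_apply x.1)
      right_inv := fun q => Subtype.ext (eS.symm_apply_apply q.1)
      map_rel_iff' := fun {a b} => eS.symm.le_iff_le }
  rw [Module.supportDim, Order.krullDim_eq_of_orderIso g, ← Order.krullDim_eq_of_orderIso f,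
    Order.krullDim_eq_of_orderIso (PrimeSpectrum.primesOverOrderIsoFiber R (S ⧸ I) p)]
  rfl

/-- The dimension of the support of the fibre module is unchanged by base change. -/
theorem supportDim_fiber_baseChange {R S N R' S' N' : Type u} [CommRing R] [CommRing S] [Algebra R S]
    [Algebra.FiniteType R S] [AddCommGroup N] [Module S N] [Module R N] [IsScalarTower R S N]
    [Module.Finite S N] [CommRing R'] [CommRing S'] [Algebra R R'] [Algebra R' S'] [Algebra R S']
    [Algebra S S'] [IsScalarTower R R' S'] [IsScalarTower R S S'] [Algebra.IsPushout R R' S S']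
    [AddCommGroup N'] [Module S' N'] [Module R' N'] [IsScalarTower R' S' N'] [Module S N']
    [IsScalarTower S S' N'] (f : N →ₗ[S] N') (hf : IsBaseChange S' f)
    (p : Ideal R) [p.IsPrime] (p' : Ideal R') [p'.IsPrime] [p'.LiesOver p] :
    Module.supportDim (p'.Fiber S') (FlatCA.fiberMod p' S' N') =
      Module.supportDim (p.Fiber S) (FlatCA.fiberMod p S N) := by
  haveI : Module.Finite S' N' := Module.Finite.equiv hf.equiv
  let I := Module.annihilator S N
  have hI : ∀ q : PrimeSpectrum S, q ∈ Module.support S N ↔ I ≤ q.asIdeal := fun q =>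
    Module.mem_support_iff_of_finite
  rw [supportDim_fiber_eq p I hI, supportDim_fiber_eq p' (I.map (algebraMap S S')) fun q =>
    (Groth.Agent.QCoh.mem_support_baseChange hf q).trans ((hI _).trans Ideal.map_le_iff_le_comap.symm)]
  haveI : Algebra.FiniteType R (S ⧸ I) :=
    Algebra.FiniteType.of_surjective (Ideal.Quotient.mkₐ R I) Ideal.Quotient.mk_surjective
  let e₁ : (R' ⊗[R] S) ≃ₐ[R'] S' := Algebra.IsPushout.equiv R R' S S'
  let e : (R' ⊗[R] (S ⧸ I)) ≃ₐ[R'] S' ⧸ I.map (algebraMap S S') :=
    (Algebra.TensorProduct.tensorQuotientEquiv (R := R) R' S R' I).trans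
      (Ideal.quotientEquivAlg _ _ e₁ (by
        conv_rhs => erw [Ideal.map_map]
        congr 1
        refine RingHom.ext fun s => ?_
        exact ((Algebra.IsPushout.equiv_tmul R R' S S' 1 s).trans (by rw [map_one, one_mul])).symm))
  rw [← ringKrullDim_eq_of_ringEquiv (R := p'.Fiber (R' ⊗[R] (S ⧸ I)))
    (S := p'.Fiber (S' ⧸ I.map (algebraMap S S')))
    (Algebra.TensorProduct.congr (AlgEquiv.refl (R := R') (A₁ := p'.ResidueField)) e).toRingEquiv,
    ringKrullDim_fiber_baseChange R R' (S ⧸ I) p p']

end Groth.Agent.FlatDevBC
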