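import Groth.Agent.FlatDevBC.Dim
import Mathlib.RingTheory.AlgebraicIndependent.Defs
import Mathlib.Topology.Homeomorph.Lemmas

/-! Fibres do not change when the residue field of the base does not change. -/

universe u

set_option autoImplicit false
set_option backward.isDefEq.respectTransparency false
set_option backward.isDefEq.respectTransparency.types false

open TensorProduct

namespace Groth.Agent.FlatDevBC

variable {R R' : Type u} [CommRing R] [CommRing R'] [Algebra R R'] (p : Ideal R) [p.IsPrime]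
  (p' : Ideal R') [p'.IsPrime] [hp : p'.LiesOver p]
  (hκ : Function.Bijective (Ideal.ResidueField.mapₐ p p' (Algebra.ofId R R') hp.over))

include hκ in
theorem exists_smul_sub_mem (r' : R') :
    ∃ a : R, ∃ b : R, b ∉ p ∧ algebraMap R R' b * r' - algebraMap R R' a ∈ p' := by
  obtain ⟨z, hz⟩ := hκ.2 (algebraMap R' p'.ResidueField r')
  obtain ⟨x, y, hy, rfl⟩ := IsFractionRing.div_surjective (A := R ⧸ p) z
  obtain ⟨a, rfl⟩ := Ideal.Quotient.mk_surjective x
  obtain ⟨b, rfl⟩ := Ideal.Quotient.mk_surjective y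
  have hb : b ∉ p := fun h => by
    rw [Ideal.Quotient.eq_zero_iff_mem.2 h] at hy
    exact zero_notMem_nonZeroDivisors hy
  refine ⟨a, b, hb, ?_⟩
  have hb' : algebraMap R p'.ResidueField b ≠ 0 := by
    rw [IsScalarTower.algebraMap_apply R R' p'.ResidueField, ne_eq, Ideal.algebraMap_residueField_eq_zero]
    intro h
    exact hb (by rw [hp.over]; exact h)
  rw [← Ideal.algebraMap_residueField_eq_zero (I := p'), map_sub, map_mul,
    ← IsScalarTower.algebraMap_apply, ← IsScalarTower.algebraMap_apply, ← hz, map_div₀]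
  have e : ∀ c : R, Ideal.ResidueField.mapₐ p p' (Algebra.ofId R R') hp.over
      (algebraMap (R ⧸ p) p.ResidueField (Ideal.Quotient.mk p c)) = algebraMap R p'.ResidueField c := fun c => by
    rw [Ideal.algebraMap_quotient_residueField_mk]
    exact (Ideal.ResidueField.mapₐ p p' (Algebra.ofId R R') hp.over).commutes c
  rw [e, e, mul_div_cancel₀ _ hb', sub_self]

variable {T T' : Type u} [CommRing T] [CommRing T'] [Algebra R T] [Algebra R' T'] [Algebra R T']
  [Algebra T T'] [IsScalarTower R R' T'] [IsScalarTower R T T'] [Algebra.IsPushout R R' T T']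

include hκ in
/-- Up to a denominator from the base, every element comes from below modulo the fibre ideal. -/
theorem exists_lift (x : T') :
    ∃ t : T, ∃ b : R, b ∉ p ∧ algebraMap R T' b * x - algebraMap T T' t ∈ p'.map (algebraMap R' T') := by
  obtain ⟨z, rfl⟩ := (Algebra.IsPushout.equiv R R' T T').surjective x
  induction z using TensorProduct.induction_on with
  | zero => exact ⟨0, 1, (Ideal.ne_top_iff_one p).1 (Ideal.IsPrime.ne_top inferInstance), by simp⟩
  | tmul r' t =>
    obtain ⟨a, b, hb, h⟩ := exists_smul_sub_mem p p' hκ r'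
    refine ⟨a • t, b, hb, ?_⟩
    have := Ideal.mul_mem_right (algebraMap T T' t) _ (Ideal.mem_map_of_mem (algebraMap R' T') h)
    rw [map_sub, map_mul, ← IsScalarTower.algebraMap_apply, ← IsScalarTower.algebraMap_apply, sub_mul] at this
    rw [Algebra.IsPushout.equiv_tmul, Algebra.smul_def, map_mul, ← IsScalarTower.algebraMap_apply R T T',
      ← mul_assoc]
    exact this
  | add z w hz hw =>
    obtain ⟨t₁, b₁, hb₁, h₁⟩ := hz
    obtain ⟨t₂, b₂, hb₂, h₂⟩ := hw
    refine ⟨b₂ • t₁ + b₁ • t₂, b₁ * b₂, fun h => (Ideal.IsPrime.mem_or_mem inferInstance h).elim hb₁ hb₂, ?_⟩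
    have := Ideal.add_mem _ (Ideal.mul_mem_left _ (algebraMap R T' b₂) h₁) (Ideal.mul_mem_left _ (algebraMap R T' b₁) h₂)
    convert this using 1
    simp only [map_add, map_mul, Algebra.smul_def, ← IsScalarTower.algebraMap_apply]
    ring

theorem mem_of_sub_mem {A : Type u} [CommRing A] {I : Ideal A} {a b : A} (ha : a ∈ I) (h : a - b ∈ I) :
    b ∈ I := by
  simpa using I.sub_mem ha h

include hκ in
/-- A prime over a given prime and over `p'` is unique. -/
theorem eq_of_liesOver (q : Ideal T) (q₁ q₂ : Ideal T') [q₁.IsPrime] [q₂.IsPrime]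
    [h1q : q₁.LiesOver q] [h2q : q₂.LiesOver q] [h1p : q₁.LiesOver p'] [h2p : q₂.LiesOver p'] : q₁ = q₂ := by
  suffices ∀ (r₁ r₂ : Ideal T') [r₁.IsPrime] [r₂.IsPrime], q = r₁.comap (algebraMap T T') →
      q = r₂.comap (algebraMap T T') → p' = r₁.comap (algebraMap R' T') → p' = r₂.comap (algebraMap R' T') →
      r₁ ≤ r₂ from le_antisymm (this q₁ q₂ h1q.over h2q.over h1p.over h2p.over)
        (this q₂ q₁ h2q.over h1q.over h2p.over h1p.over)
  intro r₁ r₂ _ _ e₁ e₂ f₁ f₂ x hx
  obtain ⟨t, b, hb, h⟩ := exists_lift (T := T) p p' hκ x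
  have ht : algebraMap T T' t ∈ r₁ := by
    have h' : algebraMap R T' b * x - algebraMap T T' t ∈ r₁ :=
      Ideal.map_le_iff_le_comap.2 f₁.le h
    exact mem_of_sub_mem (Ideal.mul_mem_left _ _ hx) h'
  have ht₂ : algebraMap T T' t ∈ r₂ := by
    have : t ∈ q := e₁.symm ▸ ht
    rw [e₂] at this
    exact this
  have h₂ : algebraMap R T' b * x - algebraMap T T' t ∈ r₂ := Ideal.map_le_iff_le_comap.2 f₂.le h
  refine (Ideal.IsPrime.mem_or_mem inferInstance (show algebraMap R T' b * x ∈ r₂ by simpa using r₂.add_mem h₂ ht₂)).resolve_left fun hb' => hb ?_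
  rw [IsScalarTower.algebraMap_apply R R' T'] at hb'
  rw [hp.over]
  show algebraMap R R' b ∈ p'
  rw [f₂]
  exact hb'

include hκ in
theorem residueField_bijective (y : Ideal T) [y.IsPrime] [y.LiesOver p] (y' : Ideal T') [y'.IsPrime]
    [hy : y'.LiesOver y] [hyp : y'.LiesOver p'] :
    Function.Bijective (Ideal.ResidueField.map y y' (algebraMap T T') hy.over) := by
  let m := Ideal.ResidueField.map y y' (algebraMap T T') hy.over
  refine ⟨RingHom.injective _, ?_⟩
  have hm : ∀ x : T', algebraMap T' y'.ResidueField x ∈ m.fieldRange := fun x => by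
    obtain ⟨t, b, hb, h⟩ := exists_lift (T := T) p p' hκ x
    have h0 : algebraMap T' y'.ResidueField (algebraMap R T' b * x - algebraMap T T' t) = 0 :=
      Ideal.algebraMap_residueField_eq_zero.2 (Ideal.map_le_iff_le_comap.2 hyp.over.le h)
    rw [map_sub, map_mul, sub_eq_zero] at h0
    have hb0 : algebraMap T' y'.ResidueField (algebraMap R T' b) ≠ 0 := by
      rw [ne_eq, Ideal.algebraMap_residueField_eq_zero, IsScalarTower.algebraMap_apply R R' T']
      intro h'
      apply hb
      rw [hp.over]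
      show algebraMap R R' b ∈ p'
      rw [hyp.over]
      exact h'
    have hx : algebraMap T' y'.ResidueField x =
        m (algebraMap T y.ResidueField t) / m (algebraMap T y.ResidueField (algebraMap R T b)) := by
      show _ = Ideal.ResidueField.map y y' (algebraMap T T') hy.over _ /
        Ideal.ResidueField.map y y' (algebraMap T T') hy.over _
      rw [Ideal.ResidueField.map_algebraMap, Ideal.ResidueField.map_algebraMap,
        ← IsScalarTower.algebraMap_apply R T T', eq_div_iff hb0, mul_comm]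
      exact h0
    rw [hx]
    exact div_mem ⟨_, rfl⟩ ⟨_, rfl⟩
  intro z
  obtain ⟨a, c, -, rfl⟩ := IsFractionRing.div_surjective (A := T' ⧸ y') z
  obtain ⟨a, rfl⟩ := Ideal.Quotient.mk_surjective a
  obtain ⟨c, rfl⟩ := Ideal.Quotient.mk_surjective c
  have : algebraMap (T' ⧸ y') y'.ResidueField (Ideal.Quotient.mk y' a) /
      algebraMap (T' ⧸ y') y'.ResidueField (Ideal.Quotient.mk y' c) ∈ m.fieldRange := by
    rw [Ideal.algebraMap_quotient_residueField_mk, Ideal.algebraMap_quotient_residueField_mk]
    exact div_mem (hm a) (hm c)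
  exact this

theorem algebraicIndependent_congr {k k' K ι : Type u} [Field k] [Field k'] [Field K] [Algebra k k']
    [Algebra k K] [Algebra k' K] [IsScalarTower k k' K] (h : Function.Bijective (algebraMap k k'))
    (x : ι → K) : AlgebraicIndependent k x ↔ AlgebraicIndependent k' x := by
  refine ⟨fun hx => ?_, fun hx => hx.restrictScalars h.1⟩
  rw [algebraicIndependent_iff_injective_aeval] at hx ⊢
  intro P Q e
  obtain ⟨P, rfl⟩ := MvPolynomial.map_surjective (algebraMap k k') h.2 P
  obtain ⟨Q, rfl⟩ := MvPolynomial.map_surjective (algebraMap k k') h.2 Q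
  rw [MvPolynomial.aeval_map_algebraMap, MvPolynomial.aeval_map_algebraMap] at e
  rw [hx e]

include hκ in
theorem purelyTranscendental_baseChange (y : Ideal T) [y.IsPrime] [hy0 : y.LiesOver p] (y' : Ideal T')
    [y'.IsPrime] [hy : y'.LiesOver y] [hyp : y'.LiesOver p'] (h : FlatCA.PurelyTranscendental p y) :
    FlatCA.PurelyTranscendental p' y' := by
  let K := y.ResidueField
  let K' := y'.ResidueField
  let k := p.ResidueField
  let k' := p'.ResidueField
  letI a1 : Algebra k K := (Ideal.ResidueField.mapₐ p y (Algebra.ofId R T) hy0.over).toRingHom.toAlgebra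
  letI a2 : Algebra k' K' := (Ideal.ResidueField.mapₐ p' y' (Algebra.ofId R' T') hyp.over).toRingHom.toAlgebra
  letI a3 : Algebra k k' := (Ideal.ResidueField.mapₐ p p' (Algebra.ofId R R') hp.over).toRingHom.toAlgebra
  letI a4 : Algebra k K' := ((algebraMap k' K').comp (algebraMap k k')).toAlgebra
  haveI : IsScalarTower k k' K' := IsScalarTower.of_algebraMap_eq' rfl
  let m := Ideal.ResidueField.map y y' (algebraMap T T') hy.over
  have hm : m.comp (algebraMap k K) = algebraMap k K' := by
    apply IsLocalization.ringHom_ext (nonZeroDivisors (R ⧸ p))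
    refine Ideal.Quotient.ringHom_ext (RingHom.ext fun r => ?_)
    simp only [RingHom.coe_comp, Function.comp_apply, Ideal.algebraMap_quotient_residueField_mk]
    show Ideal.ResidueField.map y y' (algebraMap T T') hy.over
        (Ideal.ResidueField.mapₐ p y (Algebra.ofId R T) hy0.over (algebraMap R k r)) =
      Ideal.ResidueField.mapₐ p' y' (Algebra.ofId R' T') hyp.over
        (Ideal.ResidueField.mapₐ p p' (Algebra.ofId R R') hp.over (algebraMap R k r))
    rw [AlgHom.commutes, AlgHom.commutes, IsScalarTower.algebraMap_apply R T K,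
      Ideal.ResidueField.map_algebraMap, IsScalarTower.algebraMap_apply R R' k', AlgHom.commutes,
      IsScalarTower.algebraMap_apply R' T' K', ← IsScalarTower.algebraMap_apply R T T',
      ← IsScalarTower.algebraMap_apply R R' T']
  let e : K ≃ₐ[k] K' := AlgEquiv.ofBijective ({ m with commutes' := fun r => RingHom.congr_fun hm r } : K →ₐ[k] K')
    (residueField_bijective p p' hκ y y')
  obtain ⟨ι, x, hx, hadj⟩ := h
  have hx' : IsTranscendenceBasis k (e ∘ x) := e.isTranscendenceBasis hx
  refine ⟨ι, e ∘ x, ⟨(algebraicIndependent_congr hκ _).1 hx'.1, fun s hs hss => ?_⟩, ?_⟩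
  · exact hx'.2 s ((algebraicIndependent_congr (k := k) (k' := k') hκ _).2 hs) hss
  · rw [eq_top_iff]
    intro z _
    obtain ⟨w, rfl⟩ := e.surjective z
    have hle : (IntermediateField.adjoin k (Set.range x)).map e.toAlgHom ≤
        (IntermediateField.adjoin k' (Set.range (e ∘ x))).restrictScalars k := by
      rw [IntermediateField.adjoin_map, ← Set.range_comp]
      exact IntermediateField.adjoin_le_iff.2 (IntermediateField.subset_adjoin k' _)
    refine hle ?_
    rw [IntermediateField.mem_map]
    exact ⟨w, by rw [show IntermediateField.adjoin k (Set.range x) = ⊤ from hadj]; trivial, rfl⟩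

include hκ in
theorem fiber_homeomorph (q : Ideal T) [q.IsPrime] [q.LiesOver p] (q' : Ideal T') [q'.IsPrime] [hq' : q'.LiesOver q]
    [hqp : q'.LiesOver p'] :
    ∃ h : PrimeSpectrum (p'.Fiber T') ≃ₜ PrimeSpectrum (p.Fiber T),
      (∀ x, ((PrimeSpectrum.primesOverOrderIsoFiber R T p).symm (h x)).1 =
        ((PrimeSpectrum.primesOverOrderIsoFiber R' T' p').symm x).1.comap (algebraMap T T')) ∧
      ∀ x, x.asIdeal = FlatCA.fiberIdeal p q →
        ∃ x', h x' = x ∧ x'.asIdeal = FlatCA.fiberIdeal p' q' := by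
  let k := p.ResidueField
  let k' := p'.ResidueField
  let ι : k ≃ₐ[R] k' := AlgEquiv.ofBijective (Ideal.ResidueField.mapₐ p p' (Algebra.ofId R R') hp.over) hκ
  let E : p.Fiber T ≃+* p'.Fiber T' :=
    ((Algebra.TensorProduct.congr ι (AlgEquiv.refl : T ≃ₐ[R] T)).toRingEquiv.trans
      (Algebra.TensorProduct.cancelBaseChange R R' k' k' T).symm.toRingEquiv).trans
      (Algebra.TensorProduct.congr (AlgEquiv.refl : k' ≃ₐ[k'] k') (Algebra.IsPushout.equiv R R' T T')).toRingEquiv
  have hE : ∀ t : T, E ((1 : k) ⊗ₜ[R] t) = (1 : k') ⊗ₜ[R'] algebraMap T T' t := fun t => by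
    show (Algebra.TensorProduct.congr (AlgEquiv.refl : k' ≃ₐ[k'] k') (Algebra.IsPushout.equiv R R' T T'))
      ((Algebra.TensorProduct.cancelBaseChange R R' k' k' T).symm
        ((Algebra.TensorProduct.congr ι (AlgEquiv.refl : T ≃ₐ[R] T)) ((1 : k) ⊗ₜ[R] t))) = _
    have h1 : (Algebra.TensorProduct.congr ι (AlgEquiv.refl : T ≃ₐ[R] T)) ((1 : k) ⊗ₜ[R] t) = (1 : k') ⊗ₜ[R] t :=
      (Algebra.TensorProduct.map_tmul ι.toAlgHom _ 1 t).trans (congrArg (fun z : k' => z ⊗ₜ[R] t) (map_one ι))
    have h2 : (Algebra.TensorProduct.cancelBaseChange R R' k' k' T).symm ((1 : k') ⊗ₜ[R] t) =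
        (1 : k') ⊗ₜ[R'] ((1 : R') ⊗ₜ[R] t) := by
      rw [AlgEquiv.symm_apply_eq, Algebra.TensorProduct.cancelBaseChange_tmul, one_smul]
    rw [h1, h2]
    refine (Algebra.TensorProduct.map_tmul (AlgHom.id k' k') (Algebra.IsPushout.equiv R R' T T').toAlgHom _ _).trans ?_
    show (1 : k') ⊗ₜ[R'] Algebra.IsPushout.equiv R R' T T' ((1 : R') ⊗ₜ[R] t) = _
    rw [Algebra.IsPushout.equiv_tmul, map_one, one_mul]
  refine ⟨(PrimeSpectrum.homeomorphOfRingEquiv E).symm, fun x => ?_, fun x hx => ?_⟩
  · ext t
    show E ((1 : k) ⊗ₜ[R] t) ∈ x.asIdeal ↔ (1 : k') ⊗ₜ[R'] algebraMap T T' t ∈ x.asIdeal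
    rw [hE]
  · refine ⟨PrimeSpectrum.homeomorphOfRingEquiv E x, Homeomorph.symm_apply_apply _ _, ?_⟩
    show x.asIdeal.comap E.symm.toRingHom = FlatCA.fiberIdeal p' q'
    rw [show x.asIdeal.comap E.symm.toRingHom = x.asIdeal.map E.toRingHom from
      (Ideal.map_comap_of_equiv E).symm, hx, FlatCA.fiberIdeal, FlatCA.fiberIdeal, Ideal.map_map]
    have hcomp : E.toRingHom.comp (Algebra.TensorProduct.includeRight (R := R) (A := k) (B := T)).toRingHom =
        (Algebra.TensorProduct.includeRight (R := R') (A := k') (B := T')).toRingHom.comp (algebraMap T T') :=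
      RingHom.ext hE
    rw [hcomp, ← Ideal.map_map]
    refine le_antisymm (Ideal.map_mono (Ideal.map_le_iff_le_comap.2 hq'.over.le)) ?_
    rw [Ideal.map_le_iff_le_comap]
    intro z hz
    obtain ⟨t, b, hb, h⟩ := exists_lift (T := T) p p' hκ z
    set i := (Algebra.TensorProduct.includeRight (R := R') (A := k') (B := T')).toRingHom with hi
    have hp0 : i (algebraMap R T' b * z - algebraMap T T' t) = 0 := by
      have : p'.map (algebraMap R' T') ≤ RingHom.ker i := by
        rw [Ideal.map_le_iff_le_comap]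
        intro r hr
        show (1 : k') ⊗ₜ[R'] algebraMap R' T' r = 0
        rw [Algebra.algebraMap_eq_smul_one, TensorProduct.tmul_smul, TensorProduct.smul_tmul',
          Algebra.smul_def, mul_one, Ideal.algebraMap_residueField_eq_zero.2 hr, TensorProduct.zero_tmul]
      exact this h
    have ht : t ∈ q := by
      rw [hq'.over]
      show algebraMap T T' t ∈ q'
      exact mem_of_sub_mem (Ideal.mul_mem_left _ _ hz) (Ideal.map_le_iff_le_comap.2 hqp.over.le h)
    have hu : IsUnit (i (algebraMap R T' b)) := by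
      rw [IsScalarTower.algebraMap_apply R R' T']
      show IsUnit ((1 : k') ⊗ₜ[R'] algebraMap R' T' (algebraMap R R' b))
      rw [Algebra.algebraMap_eq_smul_one, TensorProduct.tmul_smul, TensorProduct.smul_tmul',
        Algebra.smul_def, mul_one]
      refine (IsUnit.mk0 _ ?_).map (Algebra.TensorProduct.includeLeftRingHom (R := R') (A := k') (B := T'))
      rw [ne_eq, Ideal.algebraMap_residueField_eq_zero]
      intro h'
      exact hb (by rw [hp.over]; exact h')
    rw [map_sub, map_mul, sub_eq_zero] at hp0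
    rw [Ideal.mem_comap, ← Ideal.unit_mul_mem_iff_mem _ hu, hp0]
    exact Ideal.mem_map_of_mem i (Ideal.mem_map_of_mem _ ht)

theorem localDim_homeomorph {X Y : Type u} [TopologicalSpace X] [TopologicalSpace Y] (h : X ≃ₜ Y) (x : X) :
    FlatMor.localDim X x = FlatMor.localDim Y (h x) := by
  let e : {U : TopologicalSpace.Opens X // x ∈ U} ≃ {U : TopologicalSpace.Opens Y // h x ∈ U} :=
    { toFun := fun U => ⟨⟨h '' U.1, h.isOpenMap _ U.1.2⟩, ⟨x, U.2, rfl⟩⟩
      invFun := fun U => ⟨⟨h ⁻¹' U.1, U.1.2.preimage h.continuous⟩, U.2⟩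
      left_inv := fun U => Subtype.ext (TopologicalSpace.Opens.ext (h.preimage_image _))
      right_inv := fun U => Subtype.ext (TopologicalSpace.Opens.ext (h.image_preimage _)) }
  refine Equiv.iInf_congr e fun U => ?_
  exact ((h.image U.1).isHomeomorph.topologicalKrullDim_eq).symm

end Groth.Agent.FlatDevBC

namespace Groth.Agent.FlatDevBC

/-- Membership of the support of a fibre module, read in the ring. -/
theorem mem_support_fiber_iff {R S N : Type u} [CommRing R] [CommRing S] [Algebra R S] [AddCommGroup N]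
    [Module S N] [Module R N] [IsScalarTower R S N] [Module.Finite S N] (p : Ideal R) [p.IsPrime]
    (x : PrimeSpectrum (p.Fiber S)) :
    x ∈ Module.support (p.Fiber S) (FlatCA.fiberMod p S N) ↔
      Module.annihilator S N ≤ ((PrimeSpectrum.primesOverOrderIsoFiber R S p).symm x).1 := by
  letI : Algebra S (p.Fiber S) := Algebra.TensorProduct.rightAlgebra
  haveI : IsScalarTower S (p.Fiber S) (FlatCA.fiberMod p S N) :=
    inferInstanceAs (IsScalarTower S (p.Fiber S) ((p.Fiber S) ⊗[S] N))
  exact (Groth.Agent.QCoh.mem_support_baseChange (l := FlatCA.toFiberMod p S N)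
    (TensorProduct.isBaseChange S N (p.Fiber S)) x).trans Module.mem_support_iff_of_finite

end Groth.Agent.FlatDevBC
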