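import Groth.Agent.FlatDevBC.Fiber
import Groth.Agent.FlatClosed.Basic

/-! Points of a dévissage after a change of base with the same residue field. -/

universe u

set_option autoImplicit false
set_option backward.isDefEq.respectTransparency false
set_option backward.isDefEq.respectTransparency.types false

open TensorProduct

namespace Groth.Agent.FlatDevBC

variable {R R' : Type u} [CommRing R] [CommRing R'] [Algebra R R'] (p : Ideal R) [p.IsPrime]
  (p' : Ideal R') [p'.IsPrime] [hp : p'.LiesOver p]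
  (hκ : Function.Bijective (Ideal.ResidueField.mapₐ p p' (Algebra.ofId R R') hp.over))

variable {T T' : Type u} [CommRing T] [CommRing T'] [Algebra R T] [Algebra R' T'] [Algebra R T']
  [Algebra T T'] [IsScalarTower R R' T'] [IsScalarTower R T T'] [Algebra.IsPushout R R' T T']

include hκ in
theorem exists_prime_over (y : Ideal T) [y.IsPrime] [hy : y.LiesOver p] :
    ∃ y' : Ideal T', y'.IsPrime ∧ y'.LiesOver y ∧ y'.LiesOver p' := by
  let ι : p.ResidueField ≃ₐ[R] p'.ResidueField :=
    AlgEquiv.ofBijective (Ideal.ResidueField.mapₐ p p' (Algebra.ofId R R') hp.over) hκ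
  let f : R' →ₐ[R] y.ResidueField :=
    ((Ideal.ResidueField.mapₐ p y (Algebra.ofId R T) hy.over).comp ι.symm.toAlgHom).comp
      (IsScalarTower.toAlgHom R R' p'.ResidueField)
  let g : T →ₐ[R] y.ResidueField := IsScalarTower.toAlgHom R T y.ResidueField
  let d : T' →ₐ[R] y.ResidueField := Algebra.pushoutDesc T' f g fun _ _ => mul_comm _ _
  refine ⟨RingHom.ker d.toRingHom, RingHom.ker_isPrime _, ⟨?_⟩, ⟨?_⟩⟩
  · ext t
    show t ∈ y ↔ d (algebraMap T T' t) = 0
    rw [Algebra.pushoutDesc_right]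
    exact Ideal.algebraMap_residueField_eq_zero.symm
  · ext r
    show r ∈ p' ↔ d (algebraMap R' T' r) = 0
    rw [Algebra.pushoutDesc_left]
    show _ ↔ Ideal.ResidueField.mapₐ p y (Algebra.ofId R T) hy.over (ι.symm (algebraMap R' p'.ResidueField r)) = 0
    rw [map_eq_zero, map_eq_zero, Ideal.algebraMap_residueField_eq_zero]

variable {M M' : Type u} [AddCommGroup M] [Module T M] [Module R M] [IsScalarTower R T M] [Module.Finite T M]
  [AddCommGroup M'] [Module T' M'] [Module R' M'] [IsScalarTower R' T' M'] [Module T M'] [IsScalarTower T T' M']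

include hκ in
theorem localDim_baseChange (l : M →ₗ[T] M') (hl : IsBaseChange T' l) (y : Ideal T) [y.IsPrime] [y.LiesOver p]
    (y' : Ideal T') [y'.IsPrime] [y'.LiesOver y] [y'.LiesOver p'] (n : WithBot ℕ∞)
    (h : ∃ (x : PrimeSpectrum (p.Fiber T)) (hx : x ∈ Module.support (p.Fiber T) (FlatCA.fiberMod p T M)),
      x.asIdeal = FlatCA.fiberIdeal p y ∧
      FlatMor.localDim (Module.support (p.Fiber T) (FlatCA.fiberMod p T M)) ⟨x, hx⟩ = n) :
    ∃ (x : PrimeSpectrum (p'.Fiber T')) (hx : x ∈ Module.support (p'.Fiber T') (FlatCA.fiberMod p' T' M')),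
      x.asIdeal = FlatCA.fiberIdeal p' y' ∧
      FlatMor.localDim (Module.support (p'.Fiber T') (FlatCA.fiberMod p' T' M')) ⟨x, hx⟩ = n := by
  obtain ⟨ξ, hξ, hξe, hξd⟩ := h
  haveI : Module.Finite T' M' := Module.Finite.equiv hl.equiv
  obtain ⟨H, Hover, Hid⟩ := fiber_homeomorph p p' hκ y y'
  obtain ⟨ξ', hHξ, hξ'e⟩ := Hid ξ hξe
  have hmem : ∀ x, x ∈ Module.support (p'.Fiber T') (FlatCA.fiberMod p' T' M') ↔
      H x ∈ Module.support (p.Fiber T) (FlatCA.fiberMod p T M) := fun x => by
    rw [mem_support_fiber_iff, mem_support_fiber_iff, Hover x]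
    haveI := ((PrimeSpectrum.primesOverOrderIsoFiber R' T' p').symm x).2.1
    exact (Module.mem_support_iff_of_finite (p := (⟨_, this⟩ : PrimeSpectrum T'))).symm.trans
      ((Groth.Agent.QCoh.mem_support_baseChange hl _).trans Module.mem_support_iff_of_finite)
  have hξ' : ξ' ∈ Module.support (p'.Fiber T') (FlatCA.fiberMod p' T' M') :=
    (hmem ξ').2 (hHξ.symm ▸ hξ)
  refine ⟨ξ', hξ', hξ'e, ?_⟩
  rw [localDim_homeomorph (H.subtype hmem) ⟨ξ', hξ'⟩, ← hξd]
  congr 1
  exact Subtype.ext hHξ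

end Groth.Agent.FlatDevBC
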